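import Groth.Agent.QCoh.ExtendFT
import Groth.Agent.QCoh.Stalk
import Groth.Agent.Hartogs.Basic
import Mathlib.RingTheory.Flat.EquationalCriterion

/-!
# Hartogs for flat quasi-coherent modules

Sections of a flat quasi-coherent module extend uniquely across closed subsets of depth at least two,
by the equational criterion of flatness.
-/

set_option autoImplicit false
set_option linter.style.haveILetI false

universe u

open CategoryTheory AlgebraicGeometry TopologicalSpace Opposite

namespace Groth.Agent.FlatHartogs7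

open Groth.Agent Groth.Agent.QCoh

set_option backward.isDefEq.respectTransparency false

variable {X : Scheme.{u}}

/-- Sections of a quasi-coherent module on a basic open are fractions. -/
theorem exists_num {A : X.Modules} (hA : Coh.IsQCoh A) {V : X.Opens} (hV : IsAffineOpen V) (f : Γ(X, V))
    (y : Γ(A, X.basicOpen f)) :
    ∃ (n : ℕ) (m : Γ(A, V)), rf X (X.basicOpen_le f) (f ^ n) • y = rs A (X.basicOpen_le f) m := by
  letI := basicModule f A
  haveI := isLocalizedModule_basicRes f hA hV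
  obtain ⟨⟨m, ⟨s, n, rfl⟩⟩, hs⟩ := IsLocalizedModule.surj (Submonoid.powers f) (basicRes f A) y
  exact ⟨n, m, hs⟩

/-- Sections on an affine with the same restriction to a basic open differ by torsion. -/
theorem exists_pow_eq {A : X.Modules} (hA : Coh.IsQCoh A) {V : X.Opens} (hV : IsAffineOpen V) (f : Γ(X, V))
    {m m' : Γ(A, V)} (h : rs A (X.basicOpen_le f) m = rs A (X.basicOpen_le f) m') :
    ∃ n : ℕ, f ^ n • m = f ^ n • m' := by
  letI := basicModule f A
  haveI := isLocalizedModule_basicRes f hA hV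
  obtain ⟨⟨s, n, rfl⟩, hs⟩ := (IsLocalizedModule.eq_iff_exists (Submonoid.powers f) (basicRes f A)).1 h
  exact ⟨n, hs⟩

variable [IsLocallyNoetherian X] (A : X.Modules)

/-- A compact open of an affine is a finite union of basic opens. -/
theorem exists_basicOpen_cover (U : X.Opens) {V : X.Opens} (hV : IsAffineOpen V) :
    ∃ t : Finset Γ(X, V), (∀ f ∈ t, X.basicOpen f ≤ U) ∧ ∀ x ∈ V, x ∈ U → ∃ f ∈ t, x ∈ X.basicOpen f := by
  haveI : IsNoetherianRing Γ(X, V) := IsLocallyNoetherian.component_noetherian ⟨V, hV⟩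
  haveI : NoetherianSpace V := noetherianSpace_of_isAffineOpen V hV
  have hc : IsCompact ((V : Set X) ∩ U) :=
    (noetherianSpace_set_iff (V : Set X)).1 ‹_› _ Set.inter_subset_left
  have hx : ∀ x : ↑((V : Set X) ∩ U), ∃ f : Γ(X, V), X.basicOpen f ≤ U ∧ x.1 ∈ X.basicOpen f := fun x => by
    obtain ⟨f, hf, hxf⟩ := hV.exists_basicOpen_le ⟨x.1, x.2.2⟩ x.2.1
    exact ⟨f, hf, hxf⟩
  choose f hf hxf using hx
  obtain ⟨t, ht⟩ := hc.elim_finite_subcover (fun x => (X.basicOpen (f x) : Set X)) (fun x => (X.basicOpen (f x)).2)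
    fun x hxm => Set.mem_iUnion.2 ⟨⟨x, hxm⟩, hxf _⟩
  classical
  refine ⟨t.image f, fun g hg => ?_, fun x hxV hxU => ?_⟩
  · obtain ⟨z, -, rfl⟩ := Finset.mem_image.1 hg
    exact hf z
  · obtain ⟨z, hz, hxz⟩ := Set.mem_iUnion₂.1 (ht ⟨hxV, hxU⟩)
    exact ⟨f z, Finset.mem_image_of_mem f hz, hxz⟩

set_option maxHeartbeats 800000 in
/-- **Hartogs for flat modules, affine case.** -/
theorem affine_bijective (hA : Coh.IsQCoh A) (hfl : FlatMod.IsFlat A) (U : X.Opens)
    (hU : ∀ x : X, x ∉ U → (2 : ℕ∞) ≤ LocCoh.depth (X.presheaf.stalk x) (X.presheaf.stalk x))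
    {V : X.Opens} (hV : IsAffineOpen V) {W : X.Opens} (hW : W = V ⊓ U) (hWV : W ≤ V) :
    Function.Bijective (rs A hWV) := by
  subst hW
  classical
  haveI : Module.Flat Γ(X, V) Γ(A, V) := (flat_sections_iff hA hV).2 fun x _ => hfl x
  have hO : Function.Bijective (rf X hWV) := Hartogs.affine_bijective U hU hV
  obtain ⟨t, htU, htc⟩ := exists_basicOpen_cover U hV
  let ι := {f // f ∈ t}
  have hle : ∀ i : ι, X.basicOpen i.1 ≤ V ⊓ U := fun i => le_inf (X.basicOpen_le _) (htU _ i.2)
  have hcov : V ⊓ U ≤ ⨆ i : ι, X.basicOpen i.1 := fun x hx => by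
    obtain ⟨f, hf, hxf⟩ := htc x hx.1 hx.2
    exact Opens.mem_iSup.2 ⟨⟨f, hf⟩, hxf⟩
  refine ⟨(injective_iff_map_eq_zero (A.presheaf.map (homOfLE hWV).op).hom).2 fun m hm => ?_, fun s => ?_⟩
  · -- uniqueness
    have h0 : ∀ i : ι, ∃ n : ℕ, i.1 ^ n • m = 0 := fun i => by
      obtain ⟨n, hn⟩ := exists_pow_eq hA hV i.1 (m := m) (m' := 0) (by
        rw [← rs_rs hWV (hle i) m, show rs A hWV m = 0 from hm, rs, map_zero, rs, map_zero])
      exact ⟨n, by rw [hn, smul_zero]⟩
    choose n hn using h0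
    let x : Γ(X, V) →ₗ[Γ(X, V)] Γ(A, V) := LinearMap.toSpanSingleton _ _ m
    let φ : (ι → Γ(X, V)) →ₗ[Γ(X, V)] Γ(X, V) := Fintype.linearCombination Γ(X, V) fun i : ι => i.1 ^ n i
    have hxφ : x ∘ₗ φ = 0 := by
      apply LinearMap.ext; intro v
      simp [x, φ, Fintype.linearCombination_apply, mul_smul, hn]
    obtain ⟨k, a, y, hxy, haφ⟩ := Module.Flat.exists_factorization_of_comp_eq_zero_of_free hxφ
    suffices ha : a 1 = 0 by
      have := LinearMap.congr_fun hxy 1
      simpa [x, ha] using this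
    ext j
    have hz : ∀ i : ι, i.1 ^ n i * a 1 j = 0 := fun i => by
      have h := congr($(LinearMap.congr_fun haφ (Pi.single i 1)) j)
      have e : φ (Pi.single i 1) = i.1 ^ n i • (1 : Γ(X, V)) := by
        simp [φ, Fintype.linearCombination_apply_single]
      rw [LinearMap.comp_apply, e, map_smul] at h
      simpa using h
    refine hO.1 ?_
    rw [Finsupp.zero_apply, rf, rf, map_zero]
    refine TopCat.Sheaf.eq_of_locally_eq' X.sheaf (fun i : ι => X.basicOpen i.1) _
      (fun i => homOfLE (hle i)) hcov _ _ fun i => ?_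
    rw [map_zero]
    show rf X (hle i) (rf X hWV (a 1 j)) = 0
    refine ((isUnit_rf_basicOpen i.1).pow (n i)).mul_right_eq_zero.1 ?_
    have : rf X (hle i) (rf X hWV (a 1 j)) = rf X (X.basicOpen_le i.1) (a 1 j) := by
      rw [rf, rf, ← ConcreteCategory.comp_apply, ← X.presheaf.map_comp]; rfl
    rw [this, rf, rf, ← map_pow, ← map_mul, hz i, map_zero]
  · -- existence
    choose n₀ m₀ hm₀ using fun i : ι => exists_num hA hV i.1 (rs A (hle i) s)
    let N₀ := Finset.univ.sup n₀
    obtain ⟨m₁, hm₁⟩ : ∃ m₁ : ι → Γ(A, V), ∀ i : ι,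
        rs A (X.basicOpen_le i.1) (m₁ i) = rf X (X.basicOpen_le i.1) (i.1 ^ N₀) • rs A (hle i) s := by
      refine ⟨fun i => i.1 ^ (N₀ - n₀ i) • m₀ i, fun i => ?_⟩
      rw [rs_smul, ← hm₀, ← mul_smul, ← map_mul, ← pow_add, Nat.sub_add_cancel (Finset.le_sup (Finset.mem_univ i))]
    have hcomp : ∀ p : ι × ι, ∃ L : ℕ, (p.1.1 * p.2.1) ^ L • (p.2.1 ^ N₀ • m₁ p.1) =
        (p.1.1 * p.2.1) ^ L • (p.1.1 ^ N₀ • m₁ p.2) := fun p => by
      refine exists_pow_eq hA hV _ ?_
      have h1 : X.basicOpen (p.1.1 * p.2.1) ≤ X.basicOpen p.1.1 := by rw [Scheme.basicOpen_mul]; exact inf_le_left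
      have h2 : X.basicOpen (p.1.1 * p.2.1) ≤ X.basicOpen p.2.1 := by rw [Scheme.basicOpen_mul]; exact inf_le_right
      rw [rs_smul, rs_smul, ← rs_rs (X.basicOpen_le p.1.1) h1 (m₁ p.1), ← rs_rs (X.basicOpen_le p.2.1) h2 (m₁ p.2),
        hm₁, hm₁, rs_smul, rs_smul, rs_rs, rs_rs, ← mul_smul, ← mul_smul]
      congr 1
      simp only [rf, ← ConcreteCategory.comp_apply, ← X.presheaf.map_comp, ← op_comp, homOfLE_comp]
      exact mul_comm _ _
    choose L hL using hcomp
    let L₀ := Finset.univ.sup L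
    let N := N₀ + L₀
    obtain ⟨m, hm, hrel⟩ : ∃ m : ι → Γ(A, V),
        (∀ i : ι, rs A (X.basicOpen_le i.1) (m i) = rf X (X.basicOpen_le i.1) (i.1 ^ N) • rs A (hle i) s) ∧
        (∀ i j : ι, j.1 ^ N • m i = i.1 ^ N • m j) := by
      refine ⟨fun i => i.1 ^ L₀ • m₁ i, fun i => ?_, fun i j => ?_⟩
      · rw [rs_smul, hm₁, ← mul_smul, ← map_mul, ← pow_add, add_comm L₀]
      · have hl : L (i, j) ≤ L₀ := Finset.le_sup (Finset.mem_univ _)
        have h := congrArg (fun z => (i.1 * j.1) ^ (L₀ - L (i, j)) • z) (hL (i, j))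
        dsimp only at h
        have e : (i.1 * j.1) ^ (L₀ - L (i, j)) * (i.1 * j.1) ^ L (i, j) = i.1 ^ L₀ * j.1 ^ L₀ := by
          rw [← pow_add, Nat.sub_add_cancel hl, mul_pow]
        simp only [← mul_smul, ← mul_assoc, e] at h
        rw [← mul_smul, ← mul_smul]
        calc (j.1 ^ N * i.1 ^ L₀) • m₁ i = ((i.1 ^ L₀ * j.1 ^ L₀) * j.1 ^ N₀) • m₁ i := by
              congr 1; simp only [N, pow_add]; ring
          _ = ((i.1 ^ L₀ * j.1 ^ L₀) * i.1 ^ N₀) • m₁ j := h
          _ = (i.1 ^ N * j.1 ^ L₀) • m₁ j := by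
              congr 1; simp only [N, pow_add]; ring
    let x : (ι → Γ(X, V)) →ₗ[Γ(X, V)] Γ(A, V) := Fintype.linearCombination Γ(X, V) m
    let φ : (ι × ι → Γ(X, V)) →ₗ[Γ(X, V)] (ι → Γ(X, V)) :=
      Fintype.linearCombination Γ(X, V) fun p : ι × ι =>
        p.2.1 ^ N • Pi.single p.1 1 - p.1.1 ^ N • Pi.single p.2 1
    have hxs : ∀ i : ι, x (Pi.single i 1) = m i := fun i => by
      simp [x, Fintype.linearCombination_apply_single]
    have hxφ : x ∘ₗ φ = 0 := by
      refine LinearMap.ext fun v => ?_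
      simp only [φ, LinearMap.comp_apply, Fintype.linearCombination_apply, map_sum, map_smul, map_sub, hxs,
        hrel, sub_self, smul_zero, Finset.sum_const_zero, LinearMap.zero_apply]
    obtain ⟨k, a, y, hxy, haφ⟩ := Module.Flat.exists_factorization_of_comp_eq_zero_of_free hxφ
    have har : ∀ (i j : ι) (l : Fin k), j.1 ^ N * a (Pi.single i 1) l = i.1 ^ N * a (Pi.single j 1) l := by
      intro i j l
      have h := congr($(LinearMap.congr_fun haφ (Pi.single (i, j) 1)) l)
      simp only [φ, LinearMap.comp_apply, Fintype.linearCombination_apply_single, one_smul, map_sub, map_smul,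
        LinearMap.zero_apply, Finsupp.zero_apply, Finsupp.sub_apply, Finsupp.smul_apply, smul_eq_mul, sub_eq_zero] at h
      exact h
    have hb : ∀ (l : Fin k), ∃ b : Γ(X, V), ∀ i : ι,
        rf X (X.basicOpen_le i.1) (i.1 ^ N * b) = rf X (X.basicOpen_le i.1) (a (Pi.single i 1) l) := by
      intro l
      have hu : ∀ i : ι, IsUnit (rf X (X.basicOpen_le i.1) (i.1 ^ N)) := fun i => by
        rw [rf, map_pow]; exact (isUnit_rf_basicOpen i.1).pow N
      let g : ∀ i : ι, Γ(X, X.basicOpen i.1) := fun i =>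
        (hu i).unit⁻¹.val * rf X (X.basicOpen_le i.1) (a (Pi.single i 1) l)
      have hg : ∀ i, rf X (X.basicOpen_le i.1) (i.1 ^ N) * g i = rf X (X.basicOpen_le i.1) (a (Pi.single i 1) l) :=
        fun i => by rw [← mul_assoc, IsUnit.mul_val_inv, one_mul]
      have hcompat : TopCat.Presheaf.IsCompatible X.sheaf.presheaf (fun i : ι => X.basicOpen i.1) g := by
        intro i j
        let D := X.basicOpen i.1 ⊓ X.basicOpen j.1
        show rf X (inf_le_left : D ≤ _) (g i) = rf X (inf_le_right : D ≤ _) (g j)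
        have hDV : D ≤ V := inf_le_left.trans (X.basicOpen_le _)
        have ei : rf X hDV (i.1 ^ N) * rf X (inf_le_left : D ≤ _) (g i) = rf X hDV (a (Pi.single i 1) l) := by
          have h := congrArg (rf X (inf_le_left : D ≤ X.basicOpen i.1)) (hg i)
          simp only [rf, map_mul, ← ConcreteCategory.comp_apply, ← X.presheaf.map_comp, ← op_comp, homOfLE_comp] at h
          exact h
        have ej : rf X hDV (j.1 ^ N) * rf X (inf_le_right : D ≤ _) (g j) = rf X hDV (a (Pi.single j 1) l) := by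
          have h := congrArg (rf X (inf_le_right : D ≤ X.basicOpen j.1)) (hg j)
          simp only [rf, map_mul, ← ConcreteCategory.comp_apply, ← X.presheaf.map_comp, ← op_comp, homOfLE_comp] at h
          exact h
        have hui : IsUnit (rf X hDV (i.1 ^ N)) := by
          have h := (hu i).map (X.presheaf.map (homOfLE (inf_le_left : D ≤ X.basicOpen i.1)).op).hom
          simpa only [rf, ← ConcreteCategory.comp_apply, ← X.presheaf.map_comp, ← op_comp, homOfLE_comp] using h
        have huj : IsUnit (rf X hDV (j.1 ^ N)) := by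
          have h := (hu j).map (X.presheaf.map (homOfLE (inf_le_right : D ≤ X.basicOpen j.1)).op).hom
          simpa only [rf, ← ConcreteCategory.comp_apply, ← X.presheaf.map_comp, ← op_comp, homOfLE_comp] using h
        refine (hui.mul huj).mul_left_cancel ?_
        calc rf X hDV (i.1 ^ N) * rf X hDV (j.1 ^ N) * rf X inf_le_left (g i)
            = rf X hDV (j.1 ^ N) * (rf X hDV (i.1 ^ N) * rf X inf_le_left (g i)) := by ring
          _ = rf X hDV (i.1 ^ N) * (rf X hDV (j.1 ^ N) * rf X inf_le_right (g j)) := by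
              rw [ei, ej, rf, rf, rf, rf, ← map_mul, ← map_mul, har i j l]
          _ = _ := by ring
      obtain ⟨b', hb', -⟩ := X.sheaf.existsUnique_gluing' (fun i : ι => X.basicOpen i.1) (V ⊓ U)
        (fun i => homOfLE (hle i)) hcov g hcompat
      obtain ⟨b, rfl⟩ := hO.2 b'
      refine ⟨b, fun i => ?_⟩
      rw [rf, map_mul]
      have h := hb' i
      change rf X (hle i) (rf X hWV b) = g i at h
      rw [rf, rf, ← ConcreteCategory.comp_apply, ← X.presheaf.map_comp] at h
      exact (congrArg (rf X (X.basicOpen_le i.1) (i.1 ^ N) * ·) h).trans (hg i)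
    choose b hb using hb
    refine ⟨∑ l, b l • y (Finsupp.single l 1), ?_⟩
    refine TopCat.Sheaf.eq_of_locally_eq' ⟨A.presheaf, A.isSheaf⟩ (fun i : ι => X.basicOpen i.1) _
      (fun i => homOfLE (hle i)) hcov _ _ fun i => ?_
    show rs A (hle i) (rs A hWV _) = rs A (hle i) s
    rw [rs_rs]
    refine (((isUnit_rf_basicOpen i.1).pow N).smul_left_cancel).1 ?_
    have hpow : rf X (X.basicOpen_le i.1) i.1 ^ N = rf X (X.basicOpen_le i.1) (i.1 ^ N) := by rw [rf, rf, map_pow]
    rw [hpow, ← hm i, ← rs_smul, Finset.smul_sum]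
    have hmi : m i = ∑ l, a (Pi.single i 1) l • y (Finsupp.single l 1) := by
      rw [← hxs i, hxy, LinearMap.comp_apply]
      conv_lhs => rw [← Finsupp.univ_sum_single (a (Pi.single i 1))]
      simp only [map_sum, ← map_smul, Finsupp.smul_single, smul_eq_mul, mul_one]
    rw [hmi, rs, map_sum, rs, map_sum]
    refine Finset.sum_congr rfl fun l _ => ?_
    rw [← mul_smul]
    exact ((rs_smul _ _ _).trans (congrArg (· • _) (hb l i))).trans (rs_smul _ _ _).symm

end Groth.Agent.FlatHartogs7
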